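set_option autoImplicit false
namespace Cfsg.Agent.Lib.Helper6.TCD.X648U
noncomputable def WI (i : Nat) : Nat := Nat.land (Nat.shiftRight 0x86800340218000c00858002e1015070a83054142a0815030a81054042a0014080a0385018280a14040a0185008280214000a8804c3c261c130d098604c2c26141309098404c1c260c1305098204c0c26041301098004840241e120e0906848302416120a090484820240e120609028481024061202090084800260a1104088184408220211000802840102006100208008400022220f10078783c381e1a0f0c078583c281e120f08078383c181e0a0f04078183c081e020f000708838401c1e0e0e0706838301c160e0a0704838201c0e0e060702838101c060e020700838001e1e0d0e0686834301a160d0a0684834201a0e0d060682834101a060d02068083400181e0c0e06068303018160c0a060483020180e0c0606028301018060c020600830001a220b10058782c38161a0b0c058582c2816120b08058382c18160a0b04058182c0816020b00050882840141e0a0e05068283014160a0a050482820140e0a0605028281014060a02050082800160a0904048182408120209000402820101006080204008200012060702038081c000c0606020300818000e0004000280008000600000000 (Nat.mul 17 (Nat.land i 255))) 131071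
end Cfsg.Agent.Lib.Helper6.TCD.X648U
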