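import Cfsg.Agent.Lib.Helper6.TCD.X648U.SH
import Cfsg.Agent.Lib.Helper6.TCD.X648U.SC
import Cfsg.Agent.Lib.Helper6.TCD.X648U.NH
import Cfsg.Agent.Lib.Helper6.TCD.X648U.NC
import Cfsg.Agent.Lib.Helper6.TCD.X648U.WD
import Cfsg.Agent.Lib.Helper6.TCD.X648U.WI
set_option autoImplicit false
namespace Cfsg.Agent.Lib.Helper6.TCD.X648U
def n : Nat := 709
def ncol : Nat := 6
def nrw : Nat := 200
def nw : Nat := 200
def tmax : Nat := 4076
def INV : Nat := 4530945
def N : Nat := 648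
end Cfsg.Agent.Lib.Helper6.TCD.X648U
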